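import Groth.Agent.Lib.K0Proj9.Basic
import Mathlib.CategoryTheory.Triangulated.Functor

/-!
`K₀` is invariant under fully faithful triangulated functors onto the subcategory.
-/

set_option autoImplicit false
set_option linter.unusedSectionVars false

universe v v' u u'

open CategoryTheory CategoryTheory.Limits CategoryTheory.Pretriangulated

namespace Groth.Agent.K0Proj9

variable {C : Type u} [Category.{v} C] [Preadditive C] [HasZeroObject C] [HasShift C ℤ]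
  [∀ n : ℤ, (shiftFunctor C n).Additive] [Pretriangulated C]
  {D : Type u'} [Category.{v'} D] [Preadditive D] [HasZeroObject D] [HasShift D ℤ]
  [∀ n : ℤ, (shiftFunctor D n).Additive] [Pretriangulated D]
  (F : C ⥤ D) [F.CommShift ℤ] [F.IsTriangulated] (P : ObjectProperty C) (Q : ObjectProperty D)

/-- A fully faithful triangulated functor identifying the subcategories identifies their `K₀`. -/
theorem nonempty_transfer [F.Full] [F.Faithful] (hPQ : ∀ X, Q (F.obj X) ↔ P X)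
    (hess : ∀ Y, Q Y → ∃ X, Nonempty (F.obj X ≅ Y)) (hQiso : ∀ Y Y' : D, (Y ≅ Y') → Q Y → Q Y')
    (hP0 : ∀ Z : C, IsZero Z → P Z) (hQ0 : ∀ Z : D, IsZero Z → Q Z) :
    ∃ φ : KZero.K0tr P ≃+ KZero.K0tr Q, ∀ X, P X → φ (KZero.clTr P X) = KZero.clTr Q (F.obj X) := by
  obtain ⟨Z, hZ⟩ := HasZeroObject.zero (C := C)
  have hZ' : IsZero (F.obj Z) := F.map_isZero hZ
  let fwd : KZero.K0tr P →+ KZero.K0tr Q := K0Cat.liftTr (fun X => KZero.clTr Q (F.obj X.1))
    fun T h₁ h₂ h₃ hT =>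
      K0Cat.clTr_tri _ (F.map_distinguished T hT) ((hPQ _).2 h₁) ((hPQ _).2 h₂) ((hPQ _).2 h₃)
  have hfwd : ∀ X, P X → fwd (KZero.clTr P X) = KZero.clTr Q (F.obj X) :=
    fun X hX => K0Cat.liftTr_clTr _ _ hX
  let pre : Subtype Q → C := fun Y => (hess Y.1 Y.2).choose
  let preIso : ∀ Y : Subtype Q, F.obj (pre Y) ≅ Y.1 := fun Y => (hess Y.1 Y.2).choose_spec.some
  have hpre : ∀ Y, P (pre Y) := fun Y => (hPQ _).1 (hQiso _ _ (preIso Y).symm Y.2)
  have huniq : ∀ (Y : Subtype Q) (X : C), P X → (F.obj X ≅ Y.1) →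
      KZero.clTr P (pre Y) = KZero.clTr P X := fun Y X hX e =>
    K0Cat.clTr_iso (F.preimageIso ((preIso Y).trans e.symm)) hZ (hpre Y) hX (hP0 Z hZ)
  let bwd : KZero.K0tr Q →+ KZero.K0tr P := K0Cat.liftTr (fun Y => KZero.clTr P (pre Y))
    fun T h₁ h₂ h₃ hT => by
      obtain ⟨a, ha⟩ := F.map_surjective ((preIso ⟨_, h₁⟩).hom ≫ T.mor₁ ≫ (preIso ⟨_, h₂⟩).inv)
      obtain ⟨Z₃, b, c, hS⟩ := distinguished_cocone_triangle a
      let e : F.mapTriangle.obj (Triangle.mk a b c) ≅ T :=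
        isoTriangleOfIso₁₂ _ T (F.map_distinguished _ hS) hT (preIso ⟨_, h₁⟩) (preIso ⟨_, h₂⟩) (by
          show F.map a ≫ (preIso ⟨_, h₂⟩).hom = (preIso ⟨_, h₁⟩).hom ≫ T.mor₁
          rw [ha, Category.assoc, Category.assoc, Iso.inv_hom_id, Category.comp_id])
      have h3 : P Z₃ := (hPQ _).1 (hQiso _ _ (Triangle.π₃.mapIso e).symm h₃)
      show KZero.clTr P (pre ⟨_, h₂⟩) = KZero.clTr P (pre ⟨_, h₁⟩) + KZero.clTr P (pre ⟨_, h₃⟩)
      rw [huniq ⟨_, h₃⟩ Z₃ h3 (Triangle.π₃.mapIso e)]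
      exact K0Cat.clTr_tri _ hS (hpre _) (hpre _) h3
  have hbwd : ∀ Y (hY : Q Y), bwd (KZero.clTr Q Y) = KZero.clTr P (pre ⟨Y, hY⟩) :=
    fun Y hY => K0Cat.liftTr_clTr _ _ hY
  refine ⟨{ toFun := fwd, invFun := bwd, left_inv := fun x => ?_, right_inv := fun y => ?_,
            map_add' := map_add _ }, hfwd⟩
  · induction x using K0Cat.clTr_induction with
    | h0 => simp
    | hcl X hX => rw [hfwd X hX, hbwd _ ((hPQ X).2 hX)]; exact huniq ⟨_, (hPQ X).2 hX⟩ X hX (Iso.refl _)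
    | hneg a ha => rw [map_neg, map_neg, ha]
    | hadd a b ha hb => rw [map_add, map_add, ha, hb]
  · induction y using K0Cat.clTr_induction with
    | h0 => simp
    | hcl Y hY =>
      rw [hbwd Y hY, hfwd _ (hpre ⟨Y, hY⟩)]
      exact K0Cat.clTr_iso (preIso ⟨Y, hY⟩) hZ' (hQiso _ _ (preIso ⟨Y, hY⟩).symm hY) hY (hQ0 _ hZ')
    | hneg a ha => rw [map_neg, map_neg, ha]
    | hadd a b ha hb => rw [map_add, map_add, ha, hb]

end Groth.Agent.K0Proj9
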